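import Cfsg.Agent.Lib.ThreeRigid.Main
import Cfsg.Agent.Lib.AbelianSylow.SimpleCases
import Cfsg.Agent.Lib.ThreePrimeSimple.Main
import Cfsg.Agent.S1169

/-!
# The simple groups in which `S₃` is not involved (owner: helper51)

* `classify` : they are `Sz(q)` and `PSL₂(3^(2n+1))`, given the centraliser theorem `CentTarget` for
  Sylow 2-subgroups of order 8
* `cases_of_centTarget` : the statement of S4031
-/

set_option autoImplicit false
set_option linter.style.haveILetI false

namespace Cfsg.Agent.ThreeRigid

open Subgroup GoldschmidtFree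

universe u

/-- `NoInverted` passes to sections. -/
theorem noInverted_sec {G X : Type u} [Group G] [Finite G] [Group X] [Finite X]
    (h : NoInverted G) (hX : FunctorControl.IsSec G X) : NoInverted X := by
  by_contra hno
  obtain ⟨K, f, hf⟩ := hX
  exact involves_perm_three_iff.1
    (Involves.involves_of_subgroup (Involves.involves_of_surjective f hf (involves_perm_three_iff.2 hno))) h

theorem eq_one_or_eq : ∀ (a : Multiplicative (ZMod 2)) {b : Multiplicative (ZMod 2)}, b ≠ 1 → a = 1 ∨ a = b := by
  decide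

theorem psl_two_cases {F : Type} [Field F] [Fintype F] {G : Type u} [Group G]
    (h8 : Fintype.card F % 8 = 3 ∨ Fintype.card F % 8 = 5) (h : NoInverted G)
    (f : Matrix.ProjectiveSpecialLinearGroup (Fin 2) F →* G) (hf : Function.Injective f) :
    ∃ n : ℕ, Fintype.card F = 3 ^ (2 * n + 1) := by
  by_cases h3 : 3 ∣ Fintype.card F
  · obtain ⟨p, hp⟩ := CharP.exists F
    have : Fact p.Prime := ⟨CharP.char_is_prime F p⟩
    obtain ⟨d, -, hcq⟩ := FiniteField.card F p
    have hp3 : p = 3 := ((Nat.prime_dvd_prime_iff_eq Nat.prime_three Fact.out).1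
      (Nat.prime_three.dvd_of_dvd_pow (hcq ▸ h3))).symm
    subst hp3
    rcases Nat.even_or_odd' (d : ℕ) with ⟨j, hj | hj⟩
    · exfalso
      have h1 : Fintype.card F % 8 = 1 := by rw [hcq, hj, pow_mul, Nat.pow_mod]; norm_num
      omega
    · exact ⟨j, by rw [hcq, hj]⟩
  · exact absurd (h.of_injective f hf) (not_noInverted_psl_dihedral h3 (Nat.odd_iff.2 (by omega)))

/-- An abelian Sylow 2-subgroup. -/
theorem of_abelian (hCent : AbelianSylow.CentTarget.{u}) {G : Type u} [Group G] [Finite G]
    [IsSimpleGroup G] (hna : ¬ IsMulCommutative G) (h : NoInverted G) (S : Sylow 2 G)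
    (hS : IsMulCommutative (S : Subgroup G)) : Cfsg.IsSuzukiOrPSL2OddPowerThree G := by
  haveI : Fact (Nat.Prime 2) := ⟨Nat.prime_two⟩
  rcases AbelianSylow.simple_cases hna S hS with ⟨n, hn, F, _, _, hF, ⟨e⟩⟩ |
    ⟨F, iF, iFt, ⟨h8, -⟩, ⟨e⟩⟩ | hE
  · haveI : CharP F 2 := charP_of_card_eq_prime_pow (f := n) (by simpa using hF)
    exact absurd (h.of_injective e.symm.toMonoidHom e.symm.injective) not_noInverted_psl_even
  · obtain ⟨n, hn⟩ := psl_two_cases h8 h e.symm.toMonoidHom e.symm.injective
    exact Or.inr ⟨F, iF, iFt, n, hn, ⟨e⟩⟩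
  · exfalso
    obtain ⟨t, F, iF, iFt, hJ⟩ := hCent G hE
    obtain ⟨e⟩ := hJ.cent
    set C := centralizer ({t} : Set G) with hC
    let inr : Matrix.ProjectiveSpecialLinearGroup (Fin 2) F →* G :=
      C.subtype.comp (e.symm.toMonoidHom.comp (MonoidHom.inr _ _))
    have hinr : Function.Injective inr :=
      C.subtype_injective.comp (e.symm.injective.comp fun a b hab => (Prod.ext_iff.1 hab).2)
    obtain ⟨n, hn⟩ := psl_two_cases hJ.mod8 h inr hinr
    have hn1 : 1 ≤ n := by
      rcases Nat.eq_zero_or_pos n with rfl | hp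
      · have h5 := hJ.five
        rw [hn] at h5
        norm_num at h5
      · exact hp
    refine ReeInverted.not_noInverted_of_isReeType ⟨inferInstance, hna, t, inr.range, n, hn1, hJ.invol,
      ?_, ?_, F, iF, iFt, hn, ⟨(MonoidHom.ofInjective hinr).symm⟩⟩ h
    · -- a Sylow 2-subgroup through `t` centralises it
      have hp : IsPGroup 2 (zpowers t) :=
        IsPGroup.of_card (n := 1) (by rw [Nat.card_zpowers, hJ.invol, pow_one])
      obtain ⟨P, hP'⟩ := hp.exists_le_sylow
      have hP : t ∈ (P : Subgroup G) := hP' (mem_zpowers t)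
      have hle : (P : Subgroup G) ≤ C := fun x hx => mem_centralizer_singleton_iff.2
        (congrArg Subtype.val ((AbelianSylow.sylow_comm_all S hS P).is_comm.comm ⟨x, hx⟩ ⟨t, hP⟩))
      exact Nat.odd_iff.2 (Nat.two_dvd_ne_zero.1 fun h2 =>
        P.not_dvd_index (h2.trans (Subgroup.index_dvd_of_le hle)))
    · have htC : t ∈ C := mem_centralizer_singleton_iff.2 rfl
      have hle : zpowers t ≤ C := zpowers_le.2 htC
      have hKC : inr.range ≤ C := by
        rintro _ ⟨x, rfl⟩
        exact (e.symm _).2
      have hcomm : ∀ a ∈ zpowers t, ∀ b ∈ inr.range, a * b = b * a := by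
        intro a ha b hb
        obtain ⟨i, rfl⟩ := mem_zpowers_iff.1 ha
        exact (Commute.zpow_left (show Commute t b from (mem_centralizer_singleton_iff.1 (hKC hb)).symm) i)
      -- `t` goes to a central element outside the second factor
      have het : ∃ z : Multiplicative (ZMod 2), e ⟨t, htC⟩ = (z, 1) ∧ z ≠ 1 := by
        have hq : 4 ≤ Nat.card F := by
          rw [Nat.card_eq_fintype_card]
          have := hJ.five
          omega
        haveI : IsSimpleGroup (Matrix.ProjectiveSpecialLinearGroup (Fin 2) F) :=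
          PSL2.isSimpleGroup_psl hq
        have hz : (e ⟨t, htC⟩).2 ∈ Subgroup.center (Matrix.ProjectiveSpecialLinearGroup (Fin 2) F) := by
          refine mem_center_iff.2 fun x => ?_
          obtain ⟨c, hc⟩ := e.surjective (1, x)
          have hcc : c * (⟨t, htC⟩ : C) = ⟨t, htC⟩ * c :=
            Subtype.ext (mem_centralizer_singleton_iff.1 c.2)
          have h2 := congrArg Prod.snd (congrArg e hcc)
          simpa [map_mul, hc] using h2
        have hb : Subgroup.center (Matrix.ProjectiveSpecialLinearGroup (Fin 2) F) = ⊥ :=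
          (IsSimpleGroup.eq_bot_or_eq_top_of_normal _ inferInstance).resolve_right fun htop => by
            have hc : ∀ a b : Matrix.ProjectiveSpecialLinearGroup (Fin 2) F, a * b = b * a := fun a b =>
              (mem_center_iff.1 (htop ▸ mem_top b) a)
            exact PSL2.not_isSolvable_psl hq (Group.isSolvable_of_comm hc)
        rw [hb, mem_bot] at hz
        refine ⟨(e ⟨t, htC⟩).1, Prod.ext rfl hz, fun h1 => ?_⟩
        have : e ⟨t, htC⟩ = 1 := Prod.ext h1 hz
        have ht1 : t = 1 := congrArg Subtype.val (e.injective (this.trans (map_one e).symm))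
        have h2 := hJ.invol
        rw [ht1, orderOf_one] at h2
        norm_num at h2
      obtain ⟨z, hz, hz1⟩ := het
      have hmul : ∀ x : C, (x : G) ∈ inr.range ∨ (t⁻¹ * x : G) ∈ inr.range := by
        intro x
        rcases eq_one_or_eq (e x).1 hz1 with h1 | h1
        · left
          refine ⟨(e x).2, ?_⟩
          show ((e.symm (1, (e x).2) : C) : G) = x
          rw [show ((1 : Multiplicative (ZMod 2)), (e x).2) = e x from Prod.ext h1.symm rfl, e.symm_apply_apply]
        · right
          refine ⟨(e x).2, ?_⟩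
          have he : e ((⟨t, htC⟩ : C)⁻¹ * x) = (1, (e x).2) := by
            rw [map_mul, map_inv, hz]
            exact Prod.ext (by simp [h1]) (by simp)
          show ((e.symm (1, (e x).2) : C) : G) = t⁻¹ * x
          rw [← he, e.symm_apply_apply]
          rfl
      refine ⟨hle, hKC, hcomm, ?_, ?_⟩
      · refine eq_bot_iff.2 fun a ha => ?_
        obtain ⟨ha1, b, hb⟩ := ha
        obtain ⟨i, hi⟩ := mem_zpowers_iff.1 ha1
        have h2 : e (⟨a, hle ha1⟩ : C) = (1, b) := by
          rw [← e.apply_symm_apply ((1 : Multiplicative (ZMod 2)), b)]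
          exact congrArg e (Subtype.ext hb.symm)
        have h3 : e (⟨a, hle ha1⟩ : C) = (z ^ i, 1) := by
          rw [show (⟨a, hle ha1⟩ : C) = (⟨t, htC⟩ : C) ^ i from Subtype.ext (by simp [hi]), map_zpow, hz]
          exact Prod.ext (by simp) (by simp)
        have hb1 : b = 1 := (congrArg Prod.snd (h2.symm.trans h3))
        rw [mem_bot, ← hb, hb1, map_one]
      · refine le_antisymm (sup_le hle hKC) fun x hx => ?_
        rcases hmul ⟨x, hx⟩ with h1 | h1
        · exact mem_sup_right h1
        · rw [show x = t * (t⁻¹ * x) from (mul_inv_cancel_left t x).symm]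
          exact mul_mem (mem_sup_left (mem_zpowers t)) (mem_sup_right h1)

/-- A strongly embedded subgroup. -/
theorem of_stronglyEmbedded {G : Type u} [Group G] [Finite G] [IsSimpleGroup G] (hno : NoInverted G)
    {H : Subgroup G} (hH : Cfsg.IsStronglyEmbedded H) : Cfsg.IsSuzukiOrPSL2OddPowerThree G := by
  have hcore := Bender.normalCore_of_simple hH
  have h2 := SuzukiRankOne.two_involutions_of_simple hH
  obtain ⟨t, Q, h⟩ := Bender.rankOneHalf G H hH hcore h2
  haveI := Bender.faithful_of_normalCore hcore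
  obtain ⟨L, hL, hodd, hc⟩ :=
    SuzukiRankOne.classify SuzukiRankOne.kernelShape SuzukiRankOne.Suzuki.suzukiShape h h2
  obtain rfl : L = ⊤ := hL.eq_bot_or_eq_top.resolve_left fun e => by
    rw [e, Subgroup.index_bot] at hodd
    exact Nat.not_even_iff_odd.2 hodd (even_iff_two_dvd.2
      ((Involution.orderOf_of_sq h.mul_self h.ne_one) ▸ orderOf_dvd_natCard t))
  rcases hc with ⟨F, _, _, ⟨n, hn, hF⟩, ⟨e⟩⟩ | ⟨F, _, _, m, hm, hF, ⟨e⟩⟩ | ⟨F, _, _, n, hn, hF, ⟨e⟩⟩
  · haveI : CharP F 2 := charP_of_card_eq_prime_pow (f := n) (by simpa using hF)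
    let f : G ≃* _ := Subgroup.topEquiv.symm.trans e
    exact absurd (hno.of_injective f.symm.toMonoidHom f.symm.injective) not_noInverted_psl_even
  · exact Or.inl ⟨F, _, _, m, hm, hF, ⟨Subgroup.topEquiv.symm.trans e⟩⟩
  · let f : G ≃* _ := Subgroup.topEquiv.symm.trans e
    have h2' : (2 : F) = 0 := by
      have h0 : ((2 : ℕ) : F) ^ (n * 2) = 0 := by
        rw [← Nat.cast_pow, pow_mul, ← hF]; exact FiniteField.cast_card_eq_zero F
      exact_mod_cast eq_zero_of_pow_eq_zero h0
    exact absurd (hno.of_injective f.symm.toMonoidHom f.symm.injective) (not_noInverted_psu h2' _)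

theorem classify_aux (hCent : AbelianSylow.CentTarget.{u}) (n : ℕ) :
    ∀ (G : Type u) [Group G] [Finite G] [IsSimpleGroup G], Nat.card G ≤ n → ¬ IsMulCommutative G →
      NoInverted G → Cfsg.IsSuzukiOrPSL2OddPowerThree G := by
  induction n with
  | zero => intro G _ _ _ hn; exact absurd (Nat.card_pos (α := G)) (by omega)
  | succ n ih =>
    intro G _ _ _ hn hna hno
    haveI : Fact (Nat.Prime 2) := ⟨Nat.prime_two⟩
    obtain ⟨S⟩ : Nonempty (Sylow 2 G) := inferInstance
    by_cases hab : IsMulCommutative (S : Subgroup G)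
    · exact of_abelian hCent hna hno S hab
    -- non-abelian Sylow: a strongly closed abelian subgroup
    have hsec : ∀ (K R : Subgroup G) [hR : (R.subgroupOf K).Normal],
        Subgroup.centralizer (Cfsg.pCore 2 (K ⧸ R.subgroupOf K) : Set (K ⧸ R.subgroupOf K)) ≤
          Cfsg.pCore 2 (K ⧸ R.subgroupOf K) →
        Cfsg.IsCompositionKGroupWith Cfsg.IsSuzukiOrPSL2OddPowerThree (K ⧸ R.subgroupOf K) := by
      intro K R hn' hc H _ N _ hs hnc
      set X := ↥K ⧸ R.subgroupOf K with hX
      have hXsec : FunctorControl.IsSec G X := FunctorControl.isSec_quotient K R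
      have hY : FunctorControl.IsSec G (↥H ⧸ N) :=
        (hXsec.subgroup H).of_surjective _ (QuotientGroup.mk'_surjective N)
      haveI := hs
      refine ih _ ?_ hnc (noInverted_sec hno hY)
      have hlt : Nat.card (↥H ⧸ N) < Nat.card G := by
        refine lt_of_le_of_lt (Nat.le_of_dvd Nat.card_pos
          ((Subgroup.card_quotient_dvd_card N).trans (card_subgroup_dvd_card H)))
          (lt_of_le_of_ne (Nat.le_of_dvd Nat.card_pos (ThreePrimeSimple.sec_card hXsec)) fun e => ?_)
        -- a section of full order is isomorphic to the simple group itself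
        obtain ⟨K', f, hf⟩ := hXsec
        have hK'top : K' = ⊤ := Subgroup.eq_top_of_card_eq _ (le_antisymm (Subgroup.card_le_card_group _)
          (e ▸ Nat.card_le_card_of_surjective f hf))
        have hfb : Function.Bijective f := (Nat.bijective_iff_surjective_and_card _).2
          ⟨hf, by rw [e, hK'top, Nat.card_congr Subgroup.topEquiv.toEquiv]⟩
        let e' : G ≃* X := (Subgroup.topEquiv.symm.trans (MulEquiv.subgroupCongr hK'top.symm)).trans
          (MulEquiv.ofBijective f hfb)
        haveI : IsSimpleGroup X := by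
          haveI := e'.symm.toEquiv.nontrivial
          exact IsSimpleGroup.isSimpleGroup_of_surjective e'.toMonoidHom e'.surjective
        have hXna : ¬ IsMulCommutative X := fun h => hna ⟨⟨fun a b => e'.injective (by
          rw [map_mul, map_mul]; exact h.is_comm.comm _ _)⟩⟩
        rcases (Cores.pCore_normal 2 X).eq_bot_or_eq_top with hb | ht
        · rw [hb] at hc
          have : (⊤ : Subgroup X) ≤ ⊥ := le_trans (fun y _ => mem_centralizer_iff.2 fun z hz => by
            rw [SetLike.mem_coe, mem_bot] at hz; rw [hz, one_mul, mul_one]) hc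
          exact hXna ⟨⟨fun a b => by rw [mem_bot.1 (this (mem_top a)), mem_bot.1 (this (mem_top b))]⟩⟩
        · have hp : IsPGroup 2 X := (ht ▸ Cores.isPGroup_pCore 2 X).of_equiv Subgroup.topEquiv
          exact ThreePrimeSimple.not_solvable_of_simple hXna
            (by haveI := hp.isNilpotent; infer_instance)
      omega
    obtain ⟨hle, hel, hsc, -⟩ := S2796.result (not_involves_four hno) hsec S _ rfl _ rfl
    refine (S1169.result S _ ?_ hel.1 hsc).elim (fun h => absurd h hab) fun ⟨M, hM⟩ =>
      of_stronglyEmbedded hno hM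
    intro e
    have hne : Cfsg.omegaOne 2 ((S : Subgroup G) ⊓ centralizer ((S : Subgroup G) : Set G)) ≠ ⊥ := by
      refine PLocal.omegaOne_ne_bot ?_
      haveI : Nontrivial (S : Subgroup G) :=
        (Subgroup.nontrivial_iff_ne_bot _).2 (ThreePrimeSimple.sylow_ne_bot hna S)
      have hZ := S.isPGroup'.center_nontrivial
      have hZp : IsPGroup 2 ((Subgroup.center ↥(S : Subgroup G)).map (S : Subgroup G).subtype) :=
        (S.isPGroup'.to_subgroup _).map _
      have hZle : (Subgroup.center ↥(S : Subgroup G)).map (S : Subgroup G).subtype ≤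
          (S : Subgroup G) ⊓ centralizer ((S : Subgroup G) : Set G) := by
        rintro _ ⟨z, hz, rfl⟩
        exact ⟨z.2, mem_centralizer_iff.2 fun s hs =>
          congrArg Subtype.val (Subgroup.mem_center_iff.1 hz ⟨s, hs⟩)⟩
      obtain ⟨k, hk⟩ := hZp.exists_card_eq
      have hk0 : k ≠ 0 := fun h0 => by
        rw [h0, pow_zero, Cores.card_map_subtype] at hk
        exact (Subgroup.nontrivial_iff_ne_bot _).1 hZ (Subgroup.card_eq_one.1 hk)
      exact (hk ▸ dvd_pow_self 2 hk0).trans (Subgroup.card_dvd_of_le hZle)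
    refine hne (eq_bot_iff.2 fun x hx => ?_)
    have hxN : x ∈ normalizer (Cfsg.thompsonSubgroupOf 2 (S : Subgroup G) : Set G) :=
      le_normalizer.trans (PLocal.normalizer_le_normalizer_thompsonSubgroupOf _) ((PLocal.omegaOne_le _ hx).1)
    exact (SetLike.le_def.1 e.le) ⟨⟨x, hxN⟩, Subgroup.subset_normalClosure (show _ ∈ _ from hx), rfl⟩

/-- A finite non-abelian simple group with no inverted 3-element is `Sz(q)` or `PSL₂(3^(2n+1))`. -/
theorem classify (hCent : AbelianSylow.CentTarget.{u}) (G : Type u) [Group G] [Finite G]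
    [IsSimpleGroup G] (hna : ¬ IsMulCommutative G) (h : NoInverted G) :
    Cfsg.IsSuzukiOrPSL2OddPowerThree G :=
  classify_aux hCent _ G le_rfl hna h

/-- The statement of S4031. -/
theorem cases_of_centTarget (hCent : AbelianSylow.CentTarget.{u}) {G : Type u} [Group G] [Finite G]
    [IsSimpleGroup G] (hna : ¬ IsMulCommutative G)
    (hirr : ∀ x : G, (∀ r : ℕ, r.Prime → r ∣ orderOf x → r = 3) →
      Subgroup.normalizer ((Subgroup.zpowers x : Subgroup G) : Set G) ≤ Subgroup.centralizer {x}) :
    (∃ f : ℕ, 1 ≤ f ∧ Nonempty (G ≃* Matrix.ProjectiveSpecialLinearGroup (Fin 2) (GaloisField 3 (2 * f + 1)))) ∨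
    Cfsg.IsSuzuki G :=
  cases_of_list hna (classify hCent G hna (noInverted hirr))

end Cfsg.Agent.ThreeRigid
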