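import Cfsg.Agent.S2755
import Cfsg.Agent.Lib.Suzuki.LieModel
import Cfsg.Agent.Lib.Suzuki.Stabilizer
import Cfsg.Agent.Lib.CharApp.Burnside
import Cfsg.Agent.Lib.Linear.GenTools

/-!
# Simple groups in which `N(⟨x⟩) = C(x)` for every 3-element `x` (owner: helper51)

* `noInverted` : no 3-element is inverted, so `S₃` and with it `S₄` is not involved
* `cases_of_list` : the list, from `IsSuzukiOrPSL2OddPowerThree`
-/

set_option autoImplicit false

namespace Cfsg.Agent.ThreeRigid

open GoldschmidtFree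

variable {G : Type*} [Group G]

/-- No 3-element is inverted. -/
theorem noInverted (hirr : ∀ x : G, (∀ r : ℕ, r.Prime → r ∣ orderOf x → r = 3) →
      Subgroup.normalizer ((Subgroup.zpowers x : Subgroup G) : Set G) ≤ Subgroup.centralizer {x}) :
    NoInverted G := by
  rintro x g ⟨k, hk⟩ hg
  have hx : ∀ r : ℕ, r.Prime → r ∣ orderOf x → r = 3 := fun r hr hd =>
    (Nat.prime_dvd_prime_iff_eq hr Nat.prime_three).1 (hr.dvd_of_dvd_pow (hk ▸ hd))
  have hgN : g ∈ Subgroup.normalizer ((Subgroup.zpowers x : Subgroup G) : Set G) := by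
    refine Subgroup.mem_normalizer_iff.2 fun y => ⟨fun hy => ?_, fun hy => ?_⟩
    · obtain ⟨i, rfl⟩ := Subgroup.mem_zpowers_iff.1 hy
      exact Subgroup.mem_zpowers_iff.2 ⟨-i, by rw [← conj_zpow, hg, inv_zpow, zpow_neg]⟩
    · obtain ⟨i, hi⟩ := Subgroup.mem_zpowers_iff.1 hy
      refine Subgroup.mem_zpowers_iff.2 ⟨-i, ?_⟩
      apply mul_left_cancel (a := g)
      apply mul_right_cancel (b := g⁻¹)
      rw [← conj_zpow, hg, inv_zpow, zpow_neg, inv_inv, hi]
  have hc : x * g = g * x := Subgroup.mem_centralizer_iff.1 (hirr x hx hgN) x rfl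
  have hxx : x = x⁻¹ := by rw [← hg, ← hc, mul_inv_cancel_right]
  have h2 : orderOf x ∣ 2 := orderOf_dvd_of_pow_eq_one (by rw [pow_two]; nth_rw 2 [hxx]; exact mul_inv_cancel x)
  rw [← orderOf_eq_one_iff, hk]
  rcases Nat.eq_zero_or_pos k with rfl | hk0
  · rfl
  · exact absurd ((dvd_pow_self 3 hk0.ne').trans (hk ▸ h2)) (by decide)

/-- A group involving `S₄` involves `S₃`. -/
theorem involves_three_of_four (h : Cfsg.Involves (Equiv.Perm (Fin 4)) G) :
    Cfsg.Involves (Equiv.Perm (Fin 3)) G := by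
  obtain ⟨K, f, hf⟩ := Involves.exists_hom_of_involves h
  let φ : Equiv.Perm (Fin 3) →* Equiv.Perm (Fin 4) :=
    Equiv.Perm.extendDomainHom (finSuccAboveEquiv (3 : Fin 4))
  have hφ : Function.Injective φ := Equiv.Perm.extendDomainHom_injective _
  refine Involves.involves_of_subgroup (N := K) (Involves.involves_of_hom
    (K := φ.range.comap f) ((MonoidHom.ofInjective hφ).symm.toMonoidHom.comp (f.subgroupComap φ.range)) ?_)
  exact (MonoidHom.ofInjective hφ).symm.surjective.comp
    (f.subgroupComap_surjective_of_surjective φ.range hf)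

/-- No `S₄` section. -/
theorem not_involves_four [Finite G] (h : NoInverted G) :
    ¬ Cfsg.Involves (Equiv.Perm (Fin 4)) G := fun h4 =>
  involves_perm_three_iff.1 (involves_three_of_four h4) h

/-- The shape of the list in S4031. -/
theorem cases_of_list [Finite G] [IsSimpleGroup G] (hna : ¬ IsMulCommutative G)
    (hG : Cfsg.IsSuzukiOrPSL2OddPowerThree G) :
    (∃ f : ℕ, 1 ≤ f ∧ Nonempty (G ≃* Matrix.ProjectiveSpecialLinearGroup (Fin 2) (GaloisField 3 (2 * f + 1)))) ∨
    Cfsg.IsSuzuki G := by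
  rcases hG with hSz | ⟨F, iF, iFt, n, hF, ⟨e⟩⟩
  · right
    obtain ⟨F, _, _, m, hm, hF, ⟨e⟩⟩ := hSz
    refine ⟨inferInstance, m, hm, ?_⟩
    rw [Nat.card_congr (e.trans (Suzuki.lieEquiv (F := F) hm hF).symm).toEquiv, Suzuki.card_sz hm hF]
  · left
    have : Fact (Nat.Prime 3) := ⟨Nat.prime_three⟩
    refine ⟨n, ?_, ?_⟩
    · rcases Nat.eq_zero_or_pos n with rfl | hn
      · exfalso
        have hc := PSL2.card_psl_mul (F := F)
        rw [Nat.card_eq_fintype_card (α := F), hF, ← Nat.card_congr e.toEquiv] at hc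
        norm_num at hc
        have hsol : Group.IsSolvable G :=
          CharApp.isSolvable_of_card_eq_prime_pow_mul 2 3 Nat.prime_two Nat.prime_three _ G rfl 2 1 (by omega)
        exact hna ⟨⟨IsSimpleGroup.comm_iff_isSolvable.2 hsol⟩⟩
      · exact hn
    · have : Fintype (GaloisField 3 (2 * n + 1)) := Fintype.ofFinite _
      have hc : Fintype.card F = Fintype.card (GaloisField 3 (2 * n + 1)) := by
        rw [hF, ← Nat.card_eq_fintype_card, GaloisField.card 3 _ (Nat.succ_ne_zero _)]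
      exact ⟨e.trans (Linear.pslMapEquiv (FiniteField.ringEquivOfCardEq hc))⟩

end Cfsg.Agent.ThreeRigid
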