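import Cfsg.Agent.Lib.ThreeRigid.Tools
import Cfsg.Agent.Lib.PQAutomizer.Key
import Cfsg.Agent.Lib.SLMult.Psl
import Cfsg.Agent.Lib.CharSimple.Basic

/-!
# No real element of order 3 (owner: helper51)

* `exists_pi` : a core-free group generated by 2-elements without inverted 3-elements is a product of
  groups `PSL₂(3^(2f+1))`
* `real_iff_of` : the statement of S4976, given `CentTarget`
-/

set_option autoImplicit false
set_option linter.style.haveILetI false

namespace Cfsg.Agent.ThreeRigid

open Subgroup GoldschmidtFree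
open scoped commutatorElement

/-- The groups `PSL₂(3^(2f+1))`. -/
abbrev ThreeOddPSL (f : ℕ) : Type :=
  Matrix.ProjectiveSpecialLinearGroup (Fin 2) (GaloisField 3 (2 * f + 1))

theorem card_galois (f : ℕ) : Nat.card (GaloisField 3 (2 * f + 1)) = 3 ^ (2 * f + 1) :=
  GaloisField.card 3 _ (by omega)

theorem four_le_galois (f : ℕ) (hf : 1 ≤ f) : 4 ≤ Nat.card (GaloisField 3 (2 * f + 1)) := by
  rw [card_galois]
  calc 4 ≤ 3 ^ 3 := by norm_num
    _ ≤ _ := Nat.pow_le_pow_right (by norm_num) (by omega)

theorem noInverted_threeOddPSL (f : ℕ) : NoInverted (ThreeOddPSL f) := by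
  haveI : Fintype (GaloisField 3 (2 * f + 1)) := Fintype.ofFinite _
  exact noInverted_psl (n := f) (by rw [← Nat.card_eq_fintype_card, card_galois])

/-- A quotient of a group without inverted 3-elements has none. -/
theorem noInverted_of_surjective {G : Type*} {X : Type*} [Group G] [Finite G] [Group X] [Finite X]
    (h : NoInverted G) (f : G →* X) (hf : Function.Surjective f) : NoInverted X := by
  by_contra hno
  exact involves_perm_three_iff.1 (Involves.involves_of_subgroup
    (Involves.involves_of_surjective (f.comp (⊤ : Subgroup G).subtype)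
      (fun x => (hf x).elim fun g hg => ⟨⟨g, mem_top g⟩, hg⟩) (involves_perm_three_iff.2 hno))) h

/-- A minimal normal subgroup is simple, unless it is a 3-group. -/
theorem simple_of_minimal {H : Type} [Group H] [Finite H] (hgen : GenByTwo H) (hno : NoInverted H)
    (hO : Cfsg.pPrimeCore 3 H = ⊥) {N : Subgroup H} [hN : N.Normal] (hN0 : N ≠ ⊥)
    (hmin : ∀ K : Subgroup H, K.Normal → K ≤ N → K = ⊥ ∨ K = N) : IsSimpleGroup N := by
  haveI : Fact (Nat.Prime 3) := ⟨Nat.prime_three⟩
  haveI : Nontrivial N := (Subgroup.nontrivial_iff_ne_bot N).2 hN0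
  refine ⟨fun T hT => or_iff_not_imp_left.2 fun hT0 => ?_⟩
  haveI := hT
  obtain ⟨M', hM'T, hM'n, hM'0, hM'min⟩ := Cores.exists_minimal_normal_le T hT0
  haveI := hM'n
  set M := M'.map N.subtype with hMdef
  have hMN : M ≤ N := map_subtype_le _
  have h3 : 3 ∣ Nat.card M := by
    by_contra h3
    have h1 : M' ≤ Cfsg.pPrimeCore 3 N := Cores.le_pPrimeCore hM'n (by
      rw [← Cores.card_map_subtype]
      exact ((Nat.prime_three.coprime_iff_not_dvd).2 h3).symm)
    have h2 := Cores.pPrimeCore_map_subtype N 3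
    rw [hO, bot_inf_eq, map_eq_bot_iff_of_injective _ N.subtype_injective] at h2
    exact hM'0 (le_bot_iff.1 (h2 ▸ h1))
  have hstep : ∀ t : H, (∀ x ∈ M, t * (t * x * t⁻¹) * t⁻¹ ∈ M) → ∀ x ∈ M, t * x * t⁻¹ ∈ M := by
    intro t h2
    set φ : N ≃* N := MulAut.conjNormal t with hφ
    haveI hC : (M'.map φ.toMonoidHom).Normal := hM'n.map _ φ.surjective
    have hmap : M.map (MulAut.conj t).toMonoidHom = (M'.map φ.toMonoidHom).map N.subtype := by
      rw [hMdef, Subgroup.map_map, Subgroup.map_map]
      congr 1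
    by_contra hne
    rcases hM'min (M' ⊓ M'.map φ.toMonoidHom) inferInstance inf_le_left with h | h
    · refine not_swapped hno h3 ?_ ?_ h2
      · rw [disjoint_iff, hmap, hMdef, ← Subgroup.map_inf _ _ _ N.subtype_injective, h, Subgroup.map_bot]
      · rintro _ ⟨a, ha, rfl⟩ b hb
        rw [hmap] at hb
        obtain ⟨b, hb', rfl⟩ := hb
        exact (Subgroup.commute_of_normal_of_disjoint M' _ hM'n hC (disjoint_iff.2 h) a b ha hb').map
          N.subtype
    · have he : M' = M'.map φ.toMonoidHom := Subgroup.eq_of_le_of_card_ge (inf_eq_left.1 h)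
        (Subgroup.card_map_of_injective φ.injective).le
      refine hne fun x hx => ?_
      have h4 : t * x * t⁻¹ ∈ M.map (MulAut.conj t).toMonoidHom := ⟨x, hx, rfl⟩
      rwa [hmap, ← he] at h4
  have hall : ∀ (k : ℕ) (t : H), t ^ 2 ^ k = 1 → ∀ x ∈ M, t * x * t⁻¹ ∈ M := by
    intro k
    induction k with
    | zero =>
      intro t ht x hx
      rw [pow_zero, pow_one] at ht
      rwa [ht, one_mul, inv_one, mul_one]
    | succ k ih =>
      intro t ht
      refine hstep t fun x hx => ?_
      have := ih (t ^ 2) (by rw [← pow_mul, ← pow_succ']; exact ht) x hx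
      rwa [show t ^ 2 * x * (t ^ 2)⁻¹ = t * (t * x * t⁻¹) * t⁻¹ by rw [pow_two]; group] at this
  have hMn : M.Normal := by
    rw [← Subgroup.normalizer_eq_top_iff]
    refine hgen.le fun g ⟨k, hk⟩ => Subgroup.mem_normalizer_iff.2 fun x => ⟨fun hx => ?_, fun hx => ?_⟩
    · exact hall k g (hk ▸ pow_orderOf_eq_one g) x hx
    · have := hall k g⁻¹ (by rw [inv_pow, ← hk, pow_orderOf_eq_one, inv_one]) _ hx
      simpa [mul_assoc] using this
  have hM0 : M ≠ ⊥ := fun h => hM'0 ((map_eq_bot_iff_of_injective _ N.subtype_injective).1 h)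
  have hMe : M = N := (hmin M hMn hMN).resolve_left hM0
  refine top_le_iff.1 (le_trans ?_ hM'T)
  intro x _
  obtain ⟨y, hy, e⟩ := hMe.ge x.2
  exact Subtype.ext e ▸ hy

/-- A perfect central extension by a group of order 3 splits. -/
theorem normal_psl_of_central {H : Type} [Group H] [Finite H] {Z : Subgroup H} [Z.Normal]
    (hZc : Z ≤ center H) (hZ : Nat.card Z = 3) {f : ℕ} (hf : 1 ≤ f) {S : Subgroup (H ⧸ Z)}
    [hS : S.Normal] (e : S ≃* ThreeOddPSL f) :
    ∃ T : Subgroup H, T.Normal ∧ Nonempty (T ≃* ThreeOddPSL f) := by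
  haveI : Fintype (GaloisField 3 (2 * f + 1)) := Fintype.ofFinite _
  haveI : Fact (Nat.Prime 3) := ⟨Nat.prime_three⟩
  have hq := card_galois f
  have hq4 := four_le_galois f hf
  set q := QuotientGroup.mk' Z with hqdef
  set K := S.comap q with hK
  haveI hKn : K.Normal := Subgroup.normal_comap q
  let σ : K →* ThreeOddPSL f := e.toMonoidHom.comp (q.subgroupComap S)
  have hσ : Function.Surjective σ :=
    e.surjective.comp (q.subgroupComap_surjective_of_surjective S (QuotientGroup.mk'_surjective Z))
  have hmem : ∀ x : K, x ∈ σ.ker ↔ (x : H) ∈ Z := fun x => by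
    rw [MonoidHom.mem_ker, ← QuotientGroup.eq_one_iff (x : H)]
    constructor
    · intro h
      exact congrArg Subtype.val (e.map_eq_one_iff.1 h)
    · intro h
      exact e.map_eq_one_iff.2 (Subtype.ext h)
  have hker : σ.ker = Z.subgroupOf K := by
    ext x; rw [hmem]; rfl
  have hZK : Z ≤ K := QuotientGroup.le_comap_mk' Z S
  have hkc : Nat.card σ.ker = 3 := by
    rw [hker, Nat.card_congr (subgroupOfEquivOfLe hZK).toEquiv, hZ]
  have hcent : σ.ker ≤ center K := fun x hx => mem_center_iff.2 fun y =>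
    Subtype.ext (mem_center_iff.1 (hZc ((hmem x).1 hx)) y)
  by_cases hle : σ.ker ≤ _root_.commutator K
  · exfalso
    have hmult := SLMult.psl_multiplier (F := GaloisField 3 (2 * f + 1)) 2 le_rfl
      (fun _ => by
        have hc := Nat.card_eq_fintype_card (α := GaloisField 3 (2 * f + 1))
        have h27 : 3 ^ 3 ≤ Nat.card (GaloisField 3 (2 * f + 1)) := by
          rw [hq]; exact Nat.pow_le_pow_right (by norm_num) (by omega)
        norm_num at h27
        refine ⟨?_, ?_, ?_⟩ <;> omega) (fun h => absurd h (by omega))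
    obtain ⟨π, hπ⟩ := hmult.2 K σ ⟨hσ, hcent, hle⟩
    have hd := Subgroup.card_dvd_of_surjective π hπ
    have hg : Nat.gcd 2 (Fintype.card (GaloisField 3 (2 * f + 1)) - 1) ∣ 2 := Nat.gcd_dvd_left _ _
    rw [hkc, Nat.card_congr Multiplicative.toAdd, Nat.card_zmod] at hd
    exact absurd (hd.trans hg) (by decide)
  · have hdis : σ.ker ⊓ _root_.commutator K = ⊥ := by
      have hd := Subgroup.card_dvd_of_le (inf_le_left : σ.ker ⊓ _root_.commutator K ≤ σ.ker)
      rw [hkc] at hd
      rcases (Nat.dvd_prime Nat.prime_three).1 hd with h | h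
      · exact Subgroup.card_eq_one.1 h
      · exact absurd (inf_eq_left.1 (Subgroup.eq_of_le_of_card_ge inf_le_left (by omega))) hle
    refine ⟨(_root_.commutator K).map K.subtype, inferInstance, ⟨?_⟩⟩
    have hsimp : IsSimpleGroup (ThreeOddPSL f) := PSL2.isSimpleGroup_psl hq4
    have hperf : _root_.commutator (ThreeOddPSL f) = ⊤ :=
      (IsSimpleGroup.eq_bot_or_eq_top_of_normal _ inferInstance).resolve_left fun h =>
        PSL2.not_isSolvable_psl hq4 (Group.isSolvable_of_comm fun a b => by
          have h1 : ⁅a, b⁆ ∈ _root_.commutator (ThreeOddPSL f) :=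
            Subgroup.commutator_mem_commutator (mem_top a) (mem_top b)
          rw [h, mem_bot, commutatorElement_eq_one_iff_mul_comm] at h1
          exact h1)
    refine ((_root_.commutator K).equivMapOfInjective _ K.subtype_injective).symm.trans
      (MulEquiv.ofBijective (σ.comp (_root_.commutator K).subtype) ⟨?_, ?_⟩)
    · rw [injective_iff_map_eq_one]
      intro x hx
      exact Subtype.ext (mem_bot.1 (hdis ▸ mem_inf.2 ⟨MonoidHom.mem_ker.2 hx, x.2⟩))
    · intro y
      have hy : y ∈ (_root_.commutator K).map σ := by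
        rw [_root_.commutator_def, Subgroup.map_commutator, Subgroup.map_top_of_surjective σ hσ,
          ← _root_.commutator_def, hperf]
        exact mem_top y
      obtain ⟨x, hx, rfl⟩ := hy
      exact ⟨⟨x, hx⟩, rfl⟩

/-- A non-trivial group in question has a normal `PSL₂(3^(2f+1))`. -/
theorem exists_normal_psl (hCent : AbelianSylow.CentTarget.{0}) (n : ℕ) :
    ∀ (H : Type) [Group H] [Finite H], Nat.card H ≤ n → Nontrivial H → GenByTwo H → NoInverted H →
      Cfsg.pPrimeCore 3 H = ⊥ →
      ∃ (S : Subgroup H) (f : ℕ), S.Normal ∧ 1 ≤ f ∧ Nonempty (S ≃* ThreeOddPSL f) := by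
  induction n with
  | zero => intro H _ _ hn; exact absurd (Nat.card_pos (α := H)) (by omega)
  | succ n ih =>
    intro H _ _ hn hnt hgen hno hO
    haveI : Fact (Nat.Prime 3) := ⟨Nat.prime_three⟩
    obtain ⟨N, hN, hN0, hmin⟩ := Cores.exists_minimal_normal (G := H)
    haveI := hN
    haveI hsimp := simple_of_minimal hgen hno hO hN0 hmin
    have h3 : 3 ∣ Nat.card N := by
      by_contra h
      exact hN0 (Cores.pPrimeCore_eq_bot_iff.1 hO N hN
        ((Nat.prime_three.coprime_iff_not_dvd).2 h).symm)
    by_cases hab : IsMulCommutative N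
    · -- a central subgroup of order 3
      have hZ : Nat.card N = 3 := by
        obtain ⟨x, hx⟩ := exists_prime_orderOf_dvd_card' (G := N) 3 h3
        haveI : (zpowers x).Normal := ⟨fun y hy g => by
          rwa [hab.is_comm.comm g y, mul_inv_cancel_right]⟩
        have htop := (IsSimpleGroup.eq_bot_or_eq_top_of_normal (zpowers x) inferInstance).resolve_left
          fun h => by
            rw [zpowers_eq_bot] at h
            rw [h, orderOf_one] at hx
            omega
        rw [← Subgroup.card_top (G := N), ← htop, Nat.card_zpowers, hx]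
      have hNp : IsPGroup 3 N := IsPGroup.of_card (n := 1) (by rw [hZ, pow_one])
      have hNc : N ≤ center H := by
        intro x hx
        rw [mem_center_iff]
        have : (⊤ : Subgroup H) ≤ centralizer ({x} : Set H) := le_of_eq (hgen.le fun g ⟨k, hk⟩ => by
          rw [mem_centralizer_singleton_iff]
          have := two_centralizes hno hNp k g (hk ▸ pow_orderOf_eq_one g)
            (fun y hy => hN.conj_mem y hy g) x hx
          exact mul_inv_eq_iff_eq_mul.1 this).symm
        exact fun g => mem_centralizer_singleton_iff.1 (this (mem_top g))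
      have hnt' : Nontrivial (H ⧸ N) := by
        by_contra h
        rw [not_nontrivial_iff_subsingleton] at h
        have hNtop : N = ⊤ := QuotientGroup.subgroup_eq_top_of_subsingleton _ h
        haveI := hgen.subsingleton ((hNtop ▸ hNp : IsPGroup 3 (⊤ : Subgroup H)).of_equiv Subgroup.topEquiv)
        exact not_subsingleton H inferInstance
      have hlt : Nat.card (H ⧸ N) ≤ n := by
        have h := N.card_mul_index
        rw [hZ, Subgroup.index_eq_card] at h
        have := Nat.card_pos (α := H ⧸ N)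
        omega
      obtain ⟨S, f, hS, hf, ⟨e⟩⟩ := ih (H ⧸ N) hlt hnt'
        (hgen.of_surjective _ (QuotientGroup.mk'_surjective N))
        (noInverted_of_surjective hno _ (QuotientGroup.mk'_surjective N))
        (PQAutomizer.pPrimeCore_quotient_central hO hNp hNc)
      haveI := hS
      obtain ⟨T, hT, hTe⟩ := normal_psl_of_central hNc hZ hf e
      exact ⟨T, f, hT, hf, hTe⟩
    · have hnoN : NoInverted N := hno.of_injective N.subtype N.subtype_injective
      have hcl := classify hCent N hab hnoN
      rcases hcl with hSz | hP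
      · exact absurd h3 (three_not_dvd_suzuki hSz)
      · rcases cases_of_list hab (Or.inr hP) with ⟨f, hf, he⟩ | hSz
        · exact ⟨N, f, hN, hf, he⟩
        · exfalso
          obtain ⟨-, m, hm, hc⟩ := hSz
          rw [hc] at h3
          exact Suzuki.not_three_dvd m h3

/-- A core-free group in question is a product of groups `PSL₂(3^(2f+1))`. -/
theorem exists_pi (hCent : AbelianSylow.CentTarget.{0}) (n : ℕ) :
    ∀ (H : Type) [Group H] [Finite H], Nat.card H ≤ n → GenByTwo H → NoInverted H →
      Cfsg.pPrimeCore 3 H = ⊥ →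
      ∃ (k : ℕ) (f : Fin k → ℕ), (∀ i, 1 ≤ f i) ∧ Nonempty (H ≃* ((i : Fin k) → ThreeOddPSL (f i))) := by
  induction n with
  | zero => intro H _ _ hn; exact absurd (Nat.card_pos (α := H)) (by omega)
  | succ n ih =>
    intro H _ _ hn hgen hno hO
    rcases subsingleton_or_nontrivial H with hs | hnt
    · exact ⟨0, Fin.elim0, fun i => i.elim0,
        ⟨⟨⟨fun _ i => i.elim0, fun _ => 1, fun _ => Subsingleton.elim _ _,
          fun _ => funext fun i => i.elim0⟩, fun _ _ => funext fun i => i.elim0⟩⟩⟩
    obtain ⟨S, f₀, hS, hf₀, ⟨e⟩⟩ := exists_normal_psl hCent _ H le_rfl hnt hgen hno hO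
    haveI := hS
    haveI : Fintype (GaloisField 3 (2 * f₀ + 1)) := Fintype.ofFinite _
    haveI : Fact (Nat.Prime 3) := ⟨Nat.prime_three⟩
    have hq4 := four_le_galois f₀ hf₀
    haveI : IsSimpleGroup (ThreeOddPSL f₀) := PSL2.isSimpleGroup_psl hq4
    set C := centralizer (S : Set H) with hC
    have htop : S ⊔ C = ⊤ := hgen.le fun g hg => inner_of_two hno hf₀
      (by rw [← Nat.card_eq_fintype_card, card_galois]) e hg
    have hdis : Disjoint S C := by
      rw [disjoint_iff]
      haveI : IsSimpleGroup S := by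
        haveI := e.toEquiv.nontrivial
        exact IsSimpleGroup.isSimpleGroup_of_surjective e.symm.toMonoidHom e.symm.surjective
      have hn' : ((S ⊓ C).subgroupOf S).Normal := inferInstance
      rcases IsSimpleGroup.eq_bot_or_eq_top_of_normal _ hn' with h | h
      · rw [subgroupOf_eq_bot] at h
        exact le_bot_iff.1 ((le_inf (le_refl _) inf_le_left).trans h.le_bot)
      · exfalso
        rw [subgroupOf_eq_top] at h
        apply PSL2.not_isSolvable_psl hq4
        refine Group.isSolvable_of_comm fun a b => ?_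
        have h1 := mem_centralizer_iff.1 (h (e.symm b).2).2 _ (e.symm a).2
        exact e.symm.injective (by rw [map_mul, map_mul]; exact Subtype.ext h1)
    -- the isomorphism `S × C ≃* H`
    let φ : S × C →* H :=
      S.subtype.noncommCoprod C.subtype fun a b => (mem_centralizer_iff.1 b.2 _ a.2)
    have hφ : Function.Bijective φ := by
      refine ⟨?_, ?_⟩
      · rw [injective_iff_map_eq_one]
        rintro ⟨a, b⟩ h
        have h1 : (a : H) = (b : H)⁻¹ := eq_inv_of_mul_eq_one_left h
        have ha : (a : H) = 1 := mem_bot.1 (hdis.le_bot ⟨a.2, h1 ▸ C.inv_mem b.2⟩)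
        have hb : (b : H) = 1 := inv_eq_one.1 (h1 ▸ ha)
        exact Prod.ext (Subtype.ext ha) (Subtype.ext hb)
      · intro x
        obtain ⟨a, ha, b, hb, rfl⟩ := Subgroup.mem_sup_of_normal_right.1 (htop ▸ mem_top x : x ∈ S ⊔ C)
        exact ⟨(⟨a, ha⟩, ⟨b, hb⟩), rfl⟩
    let eH : H ≃* S × C := (MulEquiv.ofBijective φ hφ).symm
    have hgenC : GenByTwo C := hgen.of_surjective ((MonoidHom.snd S C).comp eH.toMonoidHom)
      (fun c => ⟨eH.symm (1, c), by simp⟩)
    have hOC : Cfsg.pPrimeCore 3 C = ⊥ := by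
      have h2 := Cores.pPrimeCore_map_subtype C 3
      rw [hO, bot_inf_eq, map_eq_bot_iff_of_injective _ C.subtype_injective] at h2
      exact h2
    have hlt : Nat.card C ≤ n := by
      have h := Nat.card_congr eH.toEquiv
      rw [Nat.card_prod] at h
      have h1 : 2 ≤ Nat.card S := by
        rw [Nat.card_congr e.toEquiv]
        exact Finite.one_lt_card
      have h2 := Nat.mul_le_mul_right (Nat.card C) h1
      have h3 := Nat.card_pos (α := C)
      omega
    obtain ⟨k, f, hf, ⟨eC⟩⟩ := ih C hlt hgenC (hno.of_injective C.subtype C.subtype_injective) hOC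
    let A : Fin (k + 1) → Type := fun i => ThreeOddPSL ((Fin.cons f₀ f : Fin (k + 1) → ℕ) i)
    let ec : ThreeOddPSL f₀ × ((i : Fin k) → ThreeOddPSL (f i)) ≃* ((i : Fin (k + 1)) → A i) :=
      { Fin.consEquiv A with
        map_mul' := fun x y => funext fun i => by
          refine Fin.cases ?_ ?_ i
          · rfl
          · intro j; rfl }
    refine ⟨k + 1, Fin.cons f₀ f, fun i => ?_, ⟨(eH.trans (e.prodCongr eC)).trans ec⟩⟩
    induction i using Fin.cases with
    | zero => simpa using hf₀
    | succ j => simpa using hf j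

/-- The statement of S4976. -/
theorem real_iff_of (hCent : AbelianSylow.CentTarget.{0}) {G : Type*} [Group G] [Finite G]
    (hgen : Subgroup.closure {g : G | ∃ k : ℕ, orderOf g = 2 ^ k} = ⊤) :
    (∀ x : G, orderOf x = 3 → ¬ IsConj x x⁻¹) ↔
      ∃ (k : ℕ) (f : Fin k → ℕ), (∀ i, 1 ≤ f i) ∧
        Nonempty (G ⧸ Cfsg.pPrimeCore 3 G ≃*
          ((i : Fin k) → Matrix.ProjectiveSpecialLinearGroup (Fin 2) (GaloisField 3 (2 * f i + 1)))) := by
  haveI : Fact (Nat.Prime 3) := ⟨Nat.prime_three⟩
  constructor
  · intro hreal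
    have hno : NoInverted G := by
      rintro x g ⟨k, hk⟩ hg
      rcases k with _ | k
      · exact orderOf_eq_one_iff.1 (hk.trans (pow_zero 3))
      exfalso
      have ho : orderOf (x ^ 3 ^ k) = 3 := by
        rw [orderOf_pow' _ (by positivity), hk, Nat.gcd_eq_right (pow_dvd_pow 3 (Nat.le_succ k)),
          Nat.pow_div (Nat.le_succ k) (by norm_num)]
        simp
      refine hreal _ ho (isConj_iff.2 ⟨g, ?_⟩)
      rw [← conj_pow, hg, inv_pow]
    obtain ⟨H, iH, ⟨e⟩⟩ := CharSimple.exists_type0 (G ⧸ Cfsg.pPrimeCore 3 G)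
    letI := iH
    haveI : Finite H := Finite.of_equiv _ e.toEquiv
    let f := e.toMonoidHom.comp (QuotientGroup.mk' (Cfsg.pPrimeCore 3 G))
    have hf : Function.Surjective f := e.surjective.comp (QuotientGroup.mk'_surjective _)
    have hO : Cfsg.pPrimeCore 3 H = ⊥ := by
      rw [← Cores.pPrimeCore_map_mulEquiv e, Cores.pPrimeCore_quotient_self, Subgroup.map_bot]
    obtain ⟨k, f', hf', ⟨e'⟩⟩ := exists_pi hCent _ H le_rfl ((show GenByTwo G from hgen).of_surjective f hf)
      (noInverted_of_surjective hno f hf) hO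
    exact ⟨k, f', hf', ⟨e.trans e'⟩⟩
  · rintro ⟨k, f, -, ⟨e⟩⟩ x hx hc
    obtain ⟨g, hg⟩ := isConj_iff.1 hc
    set q := QuotientGroup.mk' (Cfsg.pPrimeCore 3 G)
    have h1 : e (q x) = 1 := funext fun i => by
      refine noInverted_threeOddPSL (f i) _ ((e (q g)) i) ?_ ?_
      · have hd : orderOf ((e (q x)) i) ∣ 3 ^ 1 := by
          refine orderOf_dvd_of_pow_eq_one ?_
          have hx3 : x ^ 3 = 1 := (congrArg (x ^ ·) hx).symm.trans (pow_orderOf_eq_one x)
          rw [pow_one, ← Pi.pow_apply, ← map_pow, ← map_pow, hx3, map_one, map_one]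
          rfl
        obtain ⟨j, -, hj⟩ := (Nat.dvd_prime_pow Nat.prime_three).1 hd
        exact ⟨j, hj⟩
      · rw [← Pi.inv_apply, ← Pi.mul_apply, ← map_inv, ← map_inv, ← map_mul, ← map_mul, ← Pi.inv_apply,
          ← Pi.mul_apply, ← map_inv, ← map_inv, ← map_mul, ← map_mul, hg]
    have h2 : x ∈ Cfsg.pPrimeCore 3 G := (QuotientGroup.eq_one_iff x).1 (e.map_eq_one_iff.1 h1)
    have h3 := Nat.eq_one_of_dvd_coprimes (Cores.coprime_card_pPrimeCore (G := G) 3)
      (Subgroup.orderOf_dvd_natCard _ h2) (hx ▸ dvd_rfl)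
    omega

end Cfsg.Agent.ThreeRigid
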