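import Cfsg.Agent.Lib.ThreeRigid.Classify
import Cfsg.Agent.Lib.AbelianSylow.TwoTrans.Borel
import Cfsg.Agent.Lib.OddPrime.Basic

/-!
# Groups without inverted 3-elements: 2-elements on normal subgroups (owner: helper51)

* `two_centralizes` : a 2-element centralises every 3-subgroup that it normalises
* `minimal_simple` : a minimal normal subgroup of order divisible by 3, not of 3-power order, is simple
* `inner_of_two` : 2-elements induce inner automorphisms on a normal `PSL₂(3^(2n+1))`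
-/

set_option autoImplicit false
set_option linter.style.haveILetI false

namespace Cfsg.Agent.ThreeRigid

open Subgroup GoldschmidtFree
open scoped Pointwise

variable {G : Type*} [Group G]

/-- The subgroup generated by the 2-elements is everything. -/
def GenByTwo (G : Type*) [Group G] : Prop :=
  Subgroup.closure {g : G | ∃ k : ℕ, orderOf g = 2 ^ k} = ⊤

theorem GenByTwo.of_surjective {H : Type*} [Group H] (h : GenByTwo G) (f : G →* H)
    (hf : Function.Surjective f) : GenByTwo H := by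
  rw [GenByTwo, eq_top_iff, ← Subgroup.map_top_of_surjective f hf,
    ← (show Subgroup.closure {g : G | ∃ k : ℕ, orderOf g = 2 ^ k} = ⊤ from h), MonoidHom.map_closure]
  refine Subgroup.closure_mono ?_
  rintro _ ⟨g, ⟨k, hk⟩, rfl⟩
  obtain ⟨j, -, hj⟩ := (Nat.dvd_prime_pow Nat.prime_two).1 (hk ▸ orderOf_map_dvd f g)
  exact ⟨j, hj⟩

/-- A property of all 2-elements that defines a subgroup holds everywhere. -/
theorem GenByTwo.le {H : Subgroup G} (h : GenByTwo G)
    (hH : ∀ g : G, (∃ k : ℕ, orderOf g = 2 ^ k) → g ∈ H) : H = ⊤ :=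
  top_le_iff.1 (le_of_eq_of_le (Eq.symm h) ((Subgroup.closure_le H).2 fun g hg => hH g hg))

/-- A group generated by 2-elements has no non-trivial 3-quotient. -/
theorem GenByTwo.subsingleton (h : GenByTwo G) (h3 : IsPGroup 3 G) : Subsingleton G := by
  have hb : (⊥ : Subgroup G) = ⊤ := h.le fun g ⟨k, hk⟩ => by
    obtain ⟨j, hj⟩ := h3 g
    have hd : orderOf g ∣ 3 ^ j := orderOf_dvd_of_pow_eq_one hj
    have h1 : orderOf g = 1 :=
      Nat.eq_one_of_dvd_coprimes (Nat.Coprime.pow k j (by decide : Nat.Coprime 2 3)) (hk ▸ dvd_rfl) hd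
    exact mem_bot.2 (orderOf_eq_one_iff.1 h1)
  exact ⟨fun a b => by
    rw [mem_bot.1 (hb ▸ mem_top a : a ∈ (⊥ : Subgroup G)), mem_bot.1 (hb ▸ mem_top b : b ∈ (⊥ : Subgroup G))]⟩

/-- If the square of `t` centralises an element of a `t`-invariant 3-subgroup, so does `t`. -/
theorem centralizes_step (hno : NoInverted G) {P : Subgroup G} (hP : IsPGroup 3 P) {t x : G}
    (hx : x ∈ P) (htx : t * x * t⁻¹ ∈ P) (h2 : t * (t * x * t⁻¹) * t⁻¹ = x) : t * x * t⁻¹ = x := by
  have : Fact (Nat.Prime 3) := ⟨Nat.prime_three⟩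
  obtain ⟨k, hk⟩ := IsPGroup.iff_orderOf.1 hP ⟨_, mul_mem hx (inv_mem htx)⟩
  rw [Subgroup.orderOf_mk] at hk
  have h1 : x * (t * x * t⁻¹)⁻¹ = 1 := hno _ t ⟨k, hk⟩ (by
    calc t * (x * (t * x * t⁻¹)⁻¹) * t⁻¹ = (t * x * t⁻¹) * (t * (t * x * t⁻¹) * t⁻¹)⁻¹ := by group
      _ = (t * x * t⁻¹) * x⁻¹ := by rw [h2]
      _ = _ := by group)
  exact (mul_inv_eq_one.1 h1).symm

/-- A 2-element centralises each 3-subgroup that it normalises. -/
theorem two_centralizes (hno : NoInverted G) {P : Subgroup G} (hP : IsPGroup 3 P) :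
    ∀ (k : ℕ) (t : G), t ^ 2 ^ k = 1 → (∀ x ∈ P, t * x * t⁻¹ ∈ P) → ∀ x ∈ P, t * x * t⁻¹ = x := by
  intro k
  induction k with
  | zero =>
    intro t ht _ x _
    rw [pow_zero, pow_one] at ht
    rw [ht, one_mul, inv_one, mul_one]
  | succ k ih =>
    intro t ht hN x hx
    have hsq : ∀ y : G, t ^ 2 * y * (t ^ 2)⁻¹ = t * (t * y * t⁻¹) * t⁻¹ := fun y => by
      rw [pow_two]; group
    refine centralizes_step hno hP hx (hN x hx) ?_
    rw [← hsq]
    exact ih (t ^ 2) (by rw [← pow_mul, ← pow_succ']; exact ht)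
      (fun y hy => hsq y ▸ hN _ (hN y hy)) x hx

/-- Two commuting disjoint subgroups, each with a 3-element, are not interchanged. -/
theorem not_swapped [Finite G] (hno : NoInverted G) {M : Subgroup G} (h3 : 3 ∣ Nat.card M) {t : G}
    (hd : Disjoint M (M.map (MulAut.conj t).toMonoidHom))
    (hc : ∀ a ∈ M, ∀ b ∈ M.map (MulAut.conj t).toMonoidHom, Commute a b)
    (h2 : ∀ x ∈ M, t * (t * x * t⁻¹) * t⁻¹ ∈ M) : False := by
  have : Fact (Nat.Prime 3) := ⟨Nat.prime_three⟩
  have : Fact (Nat.Prime 2) := ⟨Nat.prime_two⟩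
  obtain ⟨S⟩ : Nonempty (Sylow 3 M) := inferInstance
  set P : Subgroup G := (S : Subgroup M).map M.subtype with hPdef
  have hPM : P ≤ M := map_subtype_le _
  have hPp : IsPGroup 3 P := S.2.map _
  -- the square of `t` may be taken to normalise `P`
  let φ : G → G := fun x => t * (t * x * t⁻¹) * t⁻¹
  set P' : Subgroup G := P.map ((MulAut.conj t).trans (MulAut.conj t)).toMonoidHom with hP'
  have hP'M : P' ≤ M := by
    rintro _ ⟨x, hx, rfl⟩
    exact h2 x (hPM hx)
  have hrel : ∀ {Q : Subgroup G}, Q ≤ M → Nat.card Q = Nat.card P → ¬ 3 ∣ Q.relIndex M := by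
    intro Q hQM hQ
    have hP3 : ¬ 3 ∣ P.relIndex M := by
      have h := S.not_dvd_index
      rwa [show P.relIndex M = (S : Subgroup M).index from ?_]
      rw [hPdef, Subgroup.relIndex]
      congr 1
      exact Subgroup.comap_map_eq_self_of_injective M.subtype_injective _
    have e1 := Subgroup.relIndex_mul_relIndex (⊥ : Subgroup G) P M bot_le hPM
    have e2 := Subgroup.relIndex_mul_relIndex (⊥ : Subgroup G) Q M bot_le hQM
    rw [Subgroup.relIndex_bot_left, Subgroup.relIndex_bot_left] at e1 e2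
    rw [hQ, ← e1] at e2
    rwa [Nat.eq_of_mul_eq_mul_left Nat.card_pos e2]
  obtain ⟨m, hm, hm'⟩ := OddPrime.exists_conj_sylow (P := P') (Q := P) (hPp.map _) hP'M
    (hrel hP'M (Subgroup.card_map_of_injective (MulEquiv.injective _))) hPp hPM (hrel hPM rfl)
  set h := m * t with hh
  have hmt : ∀ y ∈ M, Commute (t * m * t⁻¹) y := fun y hy => (hc y hy _ ⟨m, hm, rfl⟩).symm
  have hφ : ∀ x ∈ M, h * (h * x * h⁻¹) * h⁻¹ = m * φ x * m⁻¹ := by
    intro x hx
    calc h * (h * x * h⁻¹) * h⁻¹ = m * ((t * m * t⁻¹) * φ x * (t * m * t⁻¹)⁻¹) * m⁻¹ := by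
          simp only [hh, φ]; group
      _ = m * φ x * m⁻¹ := by rw [(hmt _ (h2 x hx)).eq, mul_inv_cancel_right]
  have hNP : ∀ x ∈ P, h * (h * x * h⁻¹) * h⁻¹ ∈ P := fun x hx => by
    rw [hφ x (hPM hx), ← hm']
    exact ⟨φ x, ⟨x, hx, rfl⟩, rfl⟩
  -- the images under odd powers of `h`
  obtain ⟨n, hn, k, hk⟩ := Involves.exists_primary_pow (q := 2) h
  obtain ⟨j, rfl⟩ : Odd n := Nat.odd_iff.2 (by omega)
  set u := h ^ (2 * j + 1) with hu
  have hpowP : ∀ (i : ℕ), ∀ x ∈ P, h ^ (2 * i) * x * (h ^ (2 * i))⁻¹ ∈ P := by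
    intro i
    induction i with
    | zero => intro x hx; simpa using hx
    | succ i ih =>
      intro x hx
      have e : h ^ (2 * (i + 1)) * x * (h ^ (2 * (i + 1)))⁻¹
          = h * (h * (h ^ (2 * i) * x * (h ^ (2 * i))⁻¹) * h⁻¹) * h⁻¹ := by
        rw [show 2 * (i + 1) = 2 * i + 1 + 1 by ring, pow_succ', pow_succ']; group
      rw [e]
      exact hNP _ (ih x hx)
  have hu2 : ∀ x ∈ P, u * (u * x * u⁻¹) * u⁻¹ ∈ P := by
    intro x hx
    have e : u * (u * x * u⁻¹) * u⁻¹ = h ^ (2 * (2 * j + 1)) * x * (h ^ (2 * (2 * j + 1)))⁻¹ := by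
      rw [hu, two_mul (2 * j + 1), pow_add]; group
    rw [e]
    exact hpowP _ x hx
  have hswap : ∀ x ∈ P, u * x * u⁻¹ ∈ M.map (MulAut.conj t).toMonoidHom := by
    intro x hx
    have e : u * x * u⁻¹ = m * (t * (h ^ (2 * j) * x * (h ^ (2 * j))⁻¹) * t⁻¹) * m⁻¹ := by
      rw [hu, pow_succ', hh]; simp only [mul_inv_rev, mul_assoc]
    have hy : t * (h ^ (2 * j) * x * (h ^ (2 * j))⁻¹) * t⁻¹ ∈ M.map (MulAut.conj t).toMonoidHom :=
      ⟨_, hPM (hpowP j x hx), rfl⟩
    rw [e, (hc m hm _ hy).eq, mul_inv_cancel_right]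
    exact hy
  have hcu : ∀ x ∈ P, u * (u * x * u⁻¹) * u⁻¹ = x := by
    intro x hx
    have hsq : ∀ y : G, u ^ 2 * y * (u ^ 2)⁻¹ = u * (u * y * u⁻¹) * u⁻¹ := fun y => by
      rw [pow_two]; group
    rw [← hsq]
    refine two_centralizes hno hPp k _ ?_ (fun y hy => hsq y ▸ hu2 y hy) x hx
    rw [← pow_mul, mul_comm, pow_mul, ← hk, pow_orderOf_eq_one, one_pow]
  -- an inverted element
  obtain ⟨x, hx⟩ := exists_prime_orderOf_dvd_card' (G := (S : Subgroup M)) 3 (S.dvd_card_of_dvd_card h3)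
  have hxP : ((x : M) : G) ∈ P := ⟨x.1, x.2, rfl⟩
  have hxo : orderOf ((x : M) : G) = 3 := by rw [Subgroup.orderOf_coe, Subgroup.orderOf_coe, hx]
  set b := u * ((x : M) : G) * u⁻¹ with hb
  have hcom : Commute ((x : M) : G) b⁻¹ := (hc _ (hPM hxP) _ (hswap _ hxP)).inv_right
  have hd3 : orderOf (((x : M) : G) * b⁻¹) ∣ 3 ^ 1 := by
    refine hcom.orderOf_mul_dvd_lcm.trans (Nat.lcm_dvd (by rw [hxo, pow_one]) ?_)
    rw [orderOf_inv, hb, show u * ((x : M) : G) * u⁻¹ = MulAut.conj u ((x : M) : G) from rfl,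
      MulEquiv.orderOf_eq, hxo, pow_one]
  obtain ⟨i, -, hi⟩ := (Nat.dvd_prime_pow Nat.prime_three).1 hd3
  have h1 : ((x : M) : G) * b⁻¹ = 1 := hno _ u ⟨i, hi⟩ (by
    calc u * (((x : M) : G) * b⁻¹) * u⁻¹ = b * (u * b * u⁻¹)⁻¹ := by rw [hb]; group
      _ = b * ((x : M) : G)⁻¹ := by rw [hb, hcu _ hxP]
      _ = _ := by group)
  rw [mul_inv_eq_one] at h1
  have : ((x : M) : G) = 1 :=
    mem_bot.1 (hd.le_bot ⟨hPM hxP, h1.symm ▸ hswap _ hxP⟩)
  rw [this, orderOf_one] at hxo
  omega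

/-- 2-elements induce inner automorphisms on a normal `PSL₂(3^(2n+1))`. -/
theorem inner_of_two [Finite G] (hno : NoInverted G) {S : Subgroup G} [hSn : S.Normal] {F : Type}
    [Field F] [Fintype F] {n : ℕ} (hn : 1 ≤ n) (hF : Fintype.card F = 3 ^ (2 * n + 1))
    (e : S ≃* Matrix.ProjectiveSpecialLinearGroup (Fin 2) F) {t : G}
    (ht : ∃ k : ℕ, orderOf t = 2 ^ k) :
    t ∈ S ⊔ centralizer (S : Set G) := by
  have : Fact (Nat.Prime 3) := ⟨Nat.prime_three⟩
  have : Fact (Nat.Prime 2) := ⟨Nat.prime_two⟩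
  obtain ⟨p, hpc⟩ := CharP.exists F
  haveI := hpc
  obtain ⟨d, hp, hd⟩ := FiniteField.card F p
  obtain rfl : p = 3 := by
    have h1 : p ∣ 3 ^ (2 * n + 1) := hF ▸ hd ▸ dvd_pow_self p d.pos.ne'
    exact (Nat.prime_dvd_prime_iff_eq hp Nat.prime_three).1 (hp.dvd_of_dvd_pow h1)
  have hq : Nat.card F = 3 ^ (2 * n + 1) := by rw [Nat.card_eq_fintype_card, hF]
  have hq4 : Nat.card F % 4 = 3 := by rw [hq]; exact two_pow_mod
  have hq27 : 27 ≤ Nat.card F := by
    rw [hq]
    calc 27 = 3 ^ 3 := by norm_num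
      _ ≤ _ := Nat.pow_le_pow_right (by norm_num) (by omega)
  obtain ⟨U₀, B₀, T₀, hB₀⟩ := AbelianSylow.TwoTrans.exists_borelData_psl (F := F) 3 rfl hq4 hq
  let f : Matrix.ProjectiveSpecialLinearGroup (Fin 2) F →* G := S.subtype.comp e.symm.toMonoidHom
  have hf : Function.Injective f := S.subtype_injective.comp e.symm.injective
  have hD := hB₀.map f hf
  have hStop : (⊤ : Subgroup (Matrix.ProjectiveSpecialLinearGroup (Fin 2) F)).map f = S := by
    rw [← MonoidHom.range_eq_map]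
    refine le_antisymm ?_ fun x hx => ⟨e ⟨x, hx⟩, by simp [f]⟩
    rintro _ ⟨y, rfl⟩
    exact (e.symm y).2
  rw [hStop] at hD
  set U := U₀.map f
  set B := B₀.map f
  set q := Nat.card F
  have hUS : U ≤ S := hD.leU.trans hD.le
  have hUp : IsPGroup 3 U := IsPGroup.of_card (n := 2 * n + 1) (hD.cardU.trans hq)
  have hcS : 2 * Nat.card S = q * ((q + 1) * (q - 1)) := by
    rw [Nat.card_congr e.toEquiv]
    have h := PSL2.card_psl_mul (F := F)
    rwa [Nat.gcd_eq_left (show 2 ∣ Nat.card F - 1 by omega)] at h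
  have h3q1 : ¬ 3 ∣ q - 1 ∧ ¬ 3 ∣ q + 1 := by
    have : 3 ∣ q := hq ▸ dvd_pow_self 3 (by omega)
    omega
  -- indices
  have hidx : B.relIndex S = q + 1 := by
    have h := Subgroup.relIndex_mul_relIndex (⊥ : Subgroup G) B S bot_le hD.le
    rw [Subgroup.relIndex_bot_left, Subgroup.relIndex_bot_left] at h
    have h2 : (2 * Nat.card B) * B.relIndex S = (q * (q - 1)) * (q + 1) := by
      rw [mul_assoc, h, hcS]; ring
    rw [hD.cardB] at h2
    exact Nat.eq_of_mul_eq_mul_left (Nat.mul_pos (by omega) (by omega)) h2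
  have hUS3 : ∀ {Q : Subgroup G}, Q ≤ S → Nat.card Q = q → ¬ 3 ∣ Q.relIndex S := by
    intro Q hQS hQ h3
    have h := Subgroup.relIndex_mul_relIndex (⊥ : Subgroup G) Q S bot_le hQS
    rw [Subgroup.relIndex_bot_left, Subgroup.relIndex_bot_left, hQ] at h
    have h2 : 2 * Q.relIndex S = (q + 1) * (q - 1) := by
      apply Nat.eq_of_mul_eq_mul_left (show 0 < q by omega)
      rw [← hcS, ← h]; ring
    rcases Nat.prime_three.dvd_mul.1 (h2 ▸ dvd_mul_of_dvd_right h3 2) with h' | h'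
    · exact h3q1.2 h'
    · exact h3q1.1 h'
  -- Frattini
  set U' := U.map (MulAut.conj t).toMonoidHom with hU'
  have hU'S : U' ≤ S := by
    rintro _ ⟨x, hx, rfl⟩
    exact hSn.conj_mem x (hUS hx) t
  obtain ⟨s, hs, hs'⟩ := OddPrime.exists_conj_sylow (P := U') (Q := U) (hUp.map _) hU'S
    (hUS3 hU'S (by rw [hU', Subgroup.card_map_of_injective (MulEquiv.injective _), hD.cardU])) hUp hUS
    (hUS3 hUS hD.cardU)
  have hst : ∀ x ∈ U, (s * t) * x * (s * t)⁻¹ ∈ U := fun x hx => by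
    rw [← hs']
    exact ⟨t * x * t⁻¹, ⟨x, hx, rfl⟩, by simp [mul_assoc]⟩
  obtain ⟨m, hm, k, hk⟩ := Involves.exists_primary_pow (q := 2) (s * t)
  set a := (s * t) ^ m with ha
  have hak : a ^ 2 ^ k = 1 := hk ▸ pow_orderOf_eq_one a
  have hanorm : ∀ (i : ℕ), ∀ x ∈ U, (s * t) ^ i * x * ((s * t) ^ i)⁻¹ ∈ U := by
    intro i
    induction i with
    | zero => intro x hx; simpa using hx
    | succ i ih =>
      intro x hx
      have e1 : (s * t) ^ (i + 1) * x * ((s * t) ^ (i + 1))⁻¹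
          = (s * t) * ((s * t) ^ i * x * ((s * t) ^ i)⁻¹) * (s * t)⁻¹ := by
        rw [pow_succ']; simp only [mul_inv_rev, mul_assoc]
      rw [e1]
      exact hst _ (ih x hx)
  have haU : ∀ u ∈ U, a * u * a⁻¹ = u := two_centralizes hno hUp k a hak (hanorm m)
  -- `a` centralises `S`
  have haS : ∀ x ∈ S, a * x * a⁻¹ ∈ S := fun x hx => hSn.conj_mem x hx a
  have haB : ∀ b ∈ B, a * b * a⁻¹ ∈ B := by
    intro b hb
    refine hD.self _ (haS b (hD.le hb)) fun x hx => ?_
    have hx' : a⁻¹ * x * a = x := by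
      conv_lhs => rw [← haU x hx]
      group
    rw [show a * b * a⁻¹ * x * (a * b * a⁻¹)⁻¹ = a * (b * (a⁻¹ * x * a) * b⁻¹) * a⁻¹ by group, hx',
      haU _ (hD.norm b hb x hx)]
    exact hD.norm b hb x hx
  have hone : ∀ x ∈ S, a * x * a⁻¹ = x := by
    -- the action of `⟨a⟩` on the cosets of `B` in `S`
    set B' := B.subgroupOf S with hB'
    have hindex : B'.index = q + 1 := hidx
    let α : MulAut S := MulAut.conjNormal a
    have hα : ∀ b ∈ B', α b ∈ B' := fun b hb => haB _ hb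
    let σ : S ⧸ B' → S ⧸ B' := Quotient.map' α fun x y hxy => by
      rw [QuotientGroup.leftRel_apply] at hxy ⊢
      rw [← map_inv, ← map_mul]
      exact hα _ hxy
    have hσ : ∀ x : S, σ (QuotientGroup.mk x) = QuotientGroup.mk (α x) := fun _ => rfl
    have hσk : σ^[2 ^ k] = id := by
      have hit : ∀ (i : ℕ) (x : S), σ^[i] (QuotientGroup.mk x) = QuotientGroup.mk ((α ^ i) x) := by
        intro i
        induction i with
        | zero => intro x; rfl
        | succ i ih =>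
          intro x
          rw [Function.iterate_succ_apply', ih, hσ, pow_succ', MulAut.mul_apply]
      funext y
      obtain ⟨x, rfl⟩ := QuotientGroup.mk_surjective y
      rw [hit, ← map_pow, hak, map_one]
      rfl
    let π : Equiv.Perm (S ⧸ B') :=
      ⟨σ, σ^[2 ^ k - 1], fun y => by
        rw [← Function.iterate_succ_apply, Nat.succ_eq_add_one,
          Nat.sub_add_cancel (Nat.one_le_two_pow (n := k)), hσk]; rfl, fun y => by
        rw [← Function.iterate_succ_apply' σ, Nat.succ_eq_add_one,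
          Nat.sub_add_cancel (Nat.one_le_two_pow (n := k)), hσk]; rfl⟩
    have hπ : π ^ 2 ^ k = 1 := Equiv.ext fun y => by
      rw [Equiv.Perm.coe_pow]
      exact congrFun hσk y
    classical
    haveI : Fintype (S ⧸ B') := Fintype.ofFinite _
    -- a second fixed coset
    obtain ⟨y, hy, hy1⟩ : ∃ y, π y = y ∧ y ≠ QuotientGroup.mk 1 :=
      Equiv.Perm.exists_fixed_point_of_prime' (p := 2) (n := k) (by
          rw [← Nat.card_eq_fintype_card, ← Subgroup.index_eq_card, hindex]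
          exact (Nat.dvd_add_right (dvd_refl 2)).1 (by omega)) hπ
        (show π (QuotientGroup.mk 1) = QuotientGroup.mk 1 from (hσ 1).trans (by rw [map_one]))
    obtain ⟨w, rfl⟩ := QuotientGroup.mk_surjective y
    have hwB : (w : G) ∉ B := fun h => hy1 (QuotientGroup.eq.2 (by simpa [hB', mem_subgroupOf] using h))
    -- the cosets `u w B`
    let ψ : U → S ⧸ B' := fun u => QuotientGroup.mk (⟨(u : G), hUS u.2⟩ * w)
    have hψ : ∀ u, σ (ψ u) = ψ u := fun u => by
      show σ (QuotientGroup.mk _) = QuotientGroup.mk _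
      rw [hσ, map_mul, show α ⟨(u : G), hUS u.2⟩ = ⟨(u : G), hUS u.2⟩ from Subtype.ext (haU u u.2)]
      have h1 := hy
      rw [show π (QuotientGroup.mk w) = QuotientGroup.mk (α w) from hσ w, QuotientGroup.eq] at h1
      rw [QuotientGroup.eq, mul_inv_rev, mul_assoc, inv_mul_cancel_left]
      exact h1
    have hψinj : Function.Injective ψ := by
      intro u v huv
      rw [QuotientGroup.eq, hB', mem_subgroupOf] at huv
      simp only [Subgroup.coe_mul, Subgroup.coe_inv, mul_inv_rev] at huv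
      set z : G := (u : G)⁻¹ * v
      have hz : z ∈ U := mul_mem (inv_mem u.2) v.2
      have hzB : (w : G)⁻¹ * z * w ∈ B := by simpa [z, mul_assoc] using huv
      have hzU : (w : G)⁻¹ * z * w ∈ U := by
        obtain ⟨i, hi⟩ := IsPGroup.iff_orderOf.1 hUp ⟨z, hz⟩
        rw [Subgroup.orderOf_mk] at hi
        -- `U` is the Sylow 3-subgroup of `B`
        haveI hUn : (U.subgroupOf B).Normal :=
          ⟨fun x hx b => mem_subgroupOf.2 (hD.norm b b.2 x (mem_subgroupOf.1 hx))⟩
        have ho : orderOf (⟨(w : G)⁻¹ * z * w, hzB⟩ : B) = 3 ^ i := by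
          rw [Subgroup.orderOf_mk, show (w : G)⁻¹ * z * w = MulAut.conj (w : G)⁻¹ z from by simp,
            MulEquiv.orderOf_eq, hi]
        have hd1 : orderOf (QuotientGroup.mk' (U.subgroupOf B) ⟨(w : G)⁻¹ * z * w, hzB⟩) ∣ 3 ^ i :=
          ho ▸ orderOf_map_dvd _ _
        have hd2 : orderOf (QuotientGroup.mk' (U.subgroupOf B) ⟨(w : G)⁻¹ * z * w, hzB⟩) ∣ q - 1 := by
          refine (_root_.orderOf_dvd_natCard _).trans ?_
          rw [← Subgroup.index_eq_card]
          have h := (U.subgroupOf B).card_mul_index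
          rw [Nat.card_congr (subgroupOfEquivOfLe hD.leU).toEquiv, hD.cardU] at h
          have h2 := hD.cardB
          rw [← h, mul_left_comm] at h2
          exact ⟨2, by rw [mul_comm, Nat.eq_of_mul_eq_mul_left (show 0 < q by omega) h2]⟩
        have := orderOf_eq_one_iff.1 (Nat.eq_one_of_dvd_coprimes
          (((Nat.prime_three.coprime_iff_not_dvd).2 h3q1.1).pow_left i) hd1 hd2)
        exact mem_subgroupOf.1 ((QuotientGroup.eq_one_iff _).1 this)
      have hwB' : (w : G)⁻¹ ∉ B := fun h => hwB (inv_inv (w : G) ▸ inv_mem h)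
      have h1 := hD.disj _ (inv_mem w.2) hwB' z hz (by rw [inv_inv]; exact hzU)
      exact Subtype.ext (inv_mul_eq_one.1 h1)
    have hall : ∀ y : S ⧸ B', σ y = y := by
      intro y
      by_cases hy' : y = QuotientGroup.mk 1
      · rw [hy', hσ, map_one]
      have hne : ∀ u, ψ u ≠ QuotientGroup.mk 1 := by
        intro u h
        rw [QuotientGroup.eq, mul_one] at h
        have h' : ((u : G) * w)⁻¹ ∈ B := by simpa [hB', mem_subgroupOf] using h
        exact hwB (by simpa using mul_mem (inv_mem (hD.leU u.2)) (inv_mem h'))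
      let ψ' : U → {y : S ⧸ B' // y ≠ QuotientGroup.mk 1} := fun u => ⟨ψ u, hne u⟩
      have hsurj : Function.Surjective ψ' :=
        ((Nat.bijective_iff_injective_and_card ψ').2 ⟨fun u v h => hψinj (congrArg Subtype.val h), by
          haveI : Fintype U := Fintype.ofFinite _
          rw [hD.cardU, Nat.card_eq_fintype_card, Fintype.card_subtype_compl, Fintype.card_subtype_eq,
            ← Nat.card_eq_fintype_card, ← Subgroup.index_eq_card, hindex]
          omega⟩).2
      obtain ⟨u, hu⟩ := hsurj ⟨y, hy'⟩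
      rw [← show ψ u = y from congrArg Subtype.val hu]
      exact hψ u
    have hz : ∀ x : S, x⁻¹ * α x ∈ B' := fun x => by
      have h := (hall (QuotientGroup.mk x)).symm
      rwa [hσ, QuotientGroup.eq] at h
    haveI : IsSimpleGroup S := by
      haveI := PSL2.isSimpleGroup_psl (L := F) (by omega)
      haveI := e.toEquiv.nontrivial
      exact IsSimpleGroup.isSimpleGroup_of_surjective e.symm.toMonoidHom e.symm.surjective
    have hcore : B'.normalCore = ⊥ :=
      (IsSimpleGroup.eq_bot_or_eq_top_of_normal _ inferInstance).resolve_right fun h => by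
        have h1 : B' = ⊤ := top_le_iff.1 (h ▸ B'.normalCore_le)
        rw [h1, Subgroup.index_top] at hindex
        omega
    intro x hx
    set X : S := ⟨x, hx⟩
    have : X⁻¹ * α X ∈ B'.normalCore := by
      intro g
      have h1 := hz (X * g⁻¹)
      have h2 := hz g⁻¹
      rw [map_mul, mul_inv_rev] at h1
      have h3 := mul_mem h1 (inv_mem h2)
      have e3 : g⁻¹⁻¹ * X⁻¹ * (α X * α g⁻¹) * (g⁻¹⁻¹ * α g⁻¹)⁻¹ = g * (X⁻¹ * α X) * g⁻¹ := by group
      rwa [e3] at h3
    rw [hcore, mem_bot, inv_mul_eq_one] at this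
    exact (congrArg Subtype.val this).symm
  -- conclusion
  have haC : a ∈ centralizer (S : Set G) := mem_centralizer_iff.2 fun x hx => by
    conv_lhs => rw [← hone x hx]
    rw [inv_mul_cancel_right]
  have hSC : (S ⊔ centralizer (S : Set G)).Normal := inferInstance
  set H := S ⊔ centralizer (S : Set G)
  let π : G →* G ⧸ H := QuotientGroup.mk' H
  have hπst : π (s * t) = π t := by
    rw [map_mul, show π s = 1 from (QuotientGroup.eq_one_iff s).2 (mem_sup_left hs), one_mul]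
  have hπa : π t ^ m = 1 := by
    rw [← hπst, ← map_pow]
    exact (QuotientGroup.eq_one_iff a).2 (mem_sup_right haC)
  obtain ⟨j, hj⟩ := ht
  have h1 : orderOf (π t) ∣ 2 ^ j := hj ▸ orderOf_map_dvd π t
  have h2 : orderOf (π t) ∣ m := orderOf_dvd_of_pow_eq_one hπa
  exact (QuotientGroup.eq_one_iff t).1 (orderOf_eq_one_iff.1 (Nat.eq_one_of_dvd_coprimes
    (((Nat.prime_two.coprime_iff_not_dvd).2 hm).pow_left j) h1 h2))

end Cfsg.Agent.ThreeRigid
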